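import Groth.Agent.GeomIrrSpread.NeutralTranslate
import Groth.Agent.GrpSchLib.Neutral
import Groth.Agent.S3403
import Mathlib.Topology.NoetherianSpace
import Mathlib.AlgebraicGeometry.Noetherian

/-!
Powers of points and the neutral components.
-/

set_option autoImplicit false
set_option linter.unusedSectionVars false
set_option linter.style.haveILetI false
set_option backward.isDefEq.respectTransparency false
set_option backward.isDefEq.respectTransparency.types false
set_option maxHeartbeats 800000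

universe u

open CategoryTheory Limits AlgebraicGeometry MonoidalCategory CartesianMonoidalCategory MonObj GrpObj
  TopologicalSpace
open scoped CategoryTheory.MonObj

noncomputable section

namespace Groth.Agent.Torsion17

open Groth.Agent.GrpSchLib Groth.Agent.GrpSchLib.Neutral Groth.Agent.GeomIrrSpread

variable {S : Scheme.{u}} {G : Over S} [GrpObj G]

/-- The point of a field-valued point. -/
abbrev pt {K : Type u} [Field K] {a : Spec (CommRingCat.of K) ⟶ S} (ζ : Over.mk a ⟶ G) : G.left :=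
  ζ.left (IsLocalRing.closedPoint K)

variable {K : Type u} [Field K] {a : Spec (CommRingCat.of K) ⟶ S}

theorem hom_pt (ζ : Over.mk a ⟶ G) : G.hom (pt ζ) = a (IsLocalRing.closedPoint K) :=
  congrArg (fun m : Spec (CommRingCat.of K) ⟶ S => m (IsLocalRing.closedPoint K)) (Over.w ζ)

theorem pt_one : pt (1 : Over.mk a ⟶ G) = unit G (a (IsLocalRing.closedPoint K)) := by
  show ((toUnit (Over.mk a) ≫ η[G] : Over.mk a ⟶ G).left) _ = _
  rw [Over.comp_left, Scheme.Hom.comp_apply]
  exact congrArg (η[G]).left (congrArg (fun m : Spec (CommRingCat.of K) ⟶ S => m (IsLocalRing.closedPoint K))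
    (show (toUnit (Over.mk a)).left = a from (Category.comp_id _).symm.trans (Over.w (toUnit (Over.mk a)))))

/-- Points with values in the neutral components form a subgroup. -/
def neutralSubgroup (a : Spec (CommRingCat.of K) ⟶ S) [LfpNearUnit G] : Subgroup (Over.mk a ⟶ G) where
  carrier := {ζ | pt ζ ∈ SGA3x.neutralSet G}
  one_mem' := by
    rw [Set.mem_ofPred_eq, pt_one]
    exact unit_mem_neutralSet G _
  mul_mem' := by
    intro ζ ζ' h h'
    rw [Set.mem_ofPred_eq, show ζ * ζ' = lift ζ ζ' ≫ μ[G] from rfl, pt, Over.comp_left, Scheme.Hom.comp_apply]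
    refine mul_mem_neutralSet G ?_ ?_
    · rw [← Scheme.Hom.comp_apply, ← Over.comp_left, lift_fst]; exact h
    · rw [← Scheme.Hom.comp_apply, ← Over.comp_left, lift_snd]; exact h'
  inv_mem' := by
    intro ζ h
    rw [Set.mem_ofPred_eq, pt, show ζ⁻¹ = ζ ≫ (GrpObj.inv : G ⟶ G) from rfl, Over.comp_left, Scheme.Hom.comp_apply]
    exact inv_mem_neutralSet G h

theorem mem_neutralSubgroup [LfpNearUnit G] (ζ : Over.mk a ⟶ G) :
    ζ ∈ neutralSubgroup a ↔ pt ζ ∈ SGA3x.neutralSet G := Iff.rfl

theorem pt_pow (ζ : Over.mk a ⟶ G) (n : ℕ) : pt (ζ ^ n) = ((𝟙 G : G ⟶ G) ^ n).left (pt ζ) := by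
  rw [← Category.comp_id ζ, ← MonObj.comp_pow, Category.comp_id]
  rfl

/-- The field-valued point at a point. -/
def atPt (z : G.left) : Over.mk (G.left.fromSpecResidueField z ≫ G.hom) ⟶ G :=
  Over.homMk (G.left.fromSpecResidueField z) rfl

theorem pt_atPt (z : G.left) : pt (atPt z) = z := Scheme.fromSpecResidueField_apply _ _

theorem pow_mem [LfpNearUnit G] {z : G.left} (hz : z ∈ SGA3x.neutralSet G) (n : ℕ) :
    ((𝟙 G : G ⟶ G) ^ n).left z ∈ SGA3x.neutralSet G := by
  have h := (neutralSubgroup (G := G) _).pow_mem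
    (show atPt z ∈ neutralSubgroup _ from (mem_neutralSubgroup _).2 (by rwa [pt_atPt])) n
  rw [mem_neutralSubgroup, pt_pow, pt_atPt] at h
  exact h

theorem pow_pow_apply (z : G.left) (m n : ℕ) :
    ((𝟙 G : G ⟶ G) ^ n).left (((𝟙 G : G ⟶ G) ^ m).left z) = ((𝟙 G : G ⟶ G) ^ (m * n)).left z := by
  rw [← Scheme.Hom.comp_apply, ← Over.comp_left, MonObj.comp_pow, Category.comp_id, ← pow_mul]

/-- Two powers in a connected set of a fibre differ by a point of the neutral component. -/
theorem mem_of_isPreconnected [LfpNearUnit G] (ζ ζ' : Over.mk a ⟶ G) (C : Set (G ⊗ Over.mk a).left)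
    (hC : _root_.IsPreconnected C) (h : (lift ζ (𝟙 _)).left (IsLocalRing.closedPoint K) ∈ C)
    (h' : (lift ζ' (𝟙 _)).left (IsLocalRing.closedPoint K) ∈ C) : ζ' * ζ⁻¹ ∈ neutralSubgroup a := by
  let t := a (IsLocalRing.closedPoint K)
  let τ : G ⊗ Over.mk a ⟶ G := fst G (Over.mk a) * (snd G (Over.mk a) ≫ ζ)⁻¹
  have hτ : ∀ ξ : Over.mk a ⟶ G, lift ξ (𝟙 _) ≫ τ = ξ * ζ⁻¹ := fun ξ => by
    rw [MonObj.comp_mul, GrpObj.comp_inv, lift_fst, lift_snd_assoc, Category.id_comp]
  have hfib : ∀ w, G.hom (τ.left w) = t := fun w => by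
    rw [← Scheme.Hom.comp_apply, Over.w τ, ← Over.w (snd G (Over.mk a)), Scheme.Hom.comp_apply]
    exact congrArg a (Subsingleton.elim _ _)
  rw [mem_neutralSubgroup, mem_neutralSet_iff, hom_pt]
  refine (hC.image τ.left τ.left.continuous.continuousOn).subset_connectedComponentIn ?_ ?_ ?_
  · refine ⟨_, h, ?_⟩
    rw [← Scheme.Hom.comp_apply, ← Over.comp_left, hτ, mul_inv_cancel]
    exact pt_one
  · rintro _ ⟨w, -, rfl⟩
    exact hfib w
  · refine ⟨_, h', ?_⟩
    rw [← Scheme.Hom.comp_apply, ← Over.comp_left, hτ]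

variable [IsLocallyNoetherian S] [LocallyOfFinitePresentation G.hom]

/-- If all powers of a point stay in a quasi-compact open, some power lies in the neutral component. -/
theorem exists_pow_mem_of_compact (z : G.left) (U : G.left.Opens) (hU : IsCompact (U : Set G.left))
    (h : ∀ m : ℕ, ((𝟙 G : G ⟶ G) ^ (m + 1)).left z ∈ U) :
    ∃ N : ℕ, 0 < N ∧ ((𝟙 G : G ⟶ G) ^ N).left z ∈ SGA3x.neutralSet G := by
  let a := G.left.fromSpecResidueField z ≫ G.hom
  let Z : Over S := Over.mk a
  let ζ := atPt z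
  haveI : LocallyOfFiniteType (snd G Z).left := inferInstanceAs (LocallyOfFiniteType (pullback.snd G.hom a))
  haveI : IsLocallyNoetherian Z.left := inferInstanceAs (IsLocallyNoetherian (Spec (G.left.residueField z)))
  haveI : IsLocallyNoetherian (G ⊗ Z).left := LocallyOfFiniteType.isLocallyNoetherian (snd G Z).left
  haveI : QuasiCompact a := inferInstance
  haveI : QuasiCompact (fst G Z).left := inferInstanceAs (QuasiCompact (pullback.fst G.hom a))
  let W : (G ⊗ Z).left.Opens := (fst G Z).left ⁻¹ᵁ U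
  haveI : CompactSpace W := isCompact_iff_compactSpace.1 ((fst G Z).left.isCompact_preimage hU)
  haveI : IsLocallyNoetherian W.toScheme := isLocallyNoetherian_of_isOpenImmersion W.ι
  haveI : CompactSpace W.toScheme := ‹CompactSpace W›
  haveI : IsNoetherian W.toScheme := {}
  let w : ℕ → W.toScheme := fun m => ⟨(lift (ζ ^ (m + 1)) (𝟙 Z)).left (IsLocalRing.closedPoint _), by
    show (fst G Z).left _ ∈ U
    rw [← Scheme.Hom.comp_apply, ← Over.comp_left, lift_fst]
    show pt (ζ ^ (m + 1)) ∈ U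
    rw [pt_pow, pt_atPt]
    exact h m⟩
  haveI : Finite ↥(irreducibleComponents W.toScheme) := NoetherianSpace.finite_irreducibleComponents.to_subtype
  let c : ℕ → irreducibleComponents W.toScheme := fun m =>
    ⟨irreducibleComponent (w m), irreducibleComponent_mem_irreducibleComponents _⟩
  obtain ⟨i, j, hij, hc⟩ := Finite.exists_ne_map_eq_of_infinite c
  wlog hlt : i < j generalizing i j with H
  · exact H j i hij.symm hc.symm (lt_of_le_of_ne (not_lt.1 hlt) hij.symm)
  refine ⟨j - i, Nat.sub_pos_of_lt hlt, ?_⟩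
  have hC : _root_.IsPreconnected ((W.ι : W.toScheme → (G ⊗ Z).left) '' irreducibleComponent (w i)) :=
    (isIrreducible_irreducibleComponent (x := w i)).isPreirreducible.isPreconnected.image _ W.ι.continuous.continuousOn
  have h1 : ζ ^ (j + 1) * (ζ ^ (i + 1))⁻¹ ∈ neutralSubgroup a :=
    mem_of_isPreconnected _ _ _ hC ⟨w i, mem_irreducibleComponent, rfl⟩
      ⟨w j, by
        rw [show irreducibleComponent (w i) = irreducibleComponent (w j) from Subtype.ext_iff.1 hc]
        exact mem_irreducibleComponent, rfl⟩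
  rw [← pow_sub ζ (by omega : i + 1 ≤ j + 1), mem_neutralSubgroup, pt_pow, pt_atPt,
    Nat.add_sub_add_right] at h1
  exact h1

/-- Some power of a generalisation of a point of the neutral components lies in them. -/
theorem exists_pow_mem_of_specializes {z y : G.left} (hzy : z ⤳ y) (hy : y ∈ SGA3x.neutralSet G) :
    ∃ N : ℕ, 0 < N ∧ ((𝟙 G : G ⟶ G) ^ N).left z ∈ SGA3x.neutralSet G := by
  obtain ⟨V, C, hsV, hV, hC, hCV, hNC⟩ := Neutral.exists_compact G (G.hom y)
  obtain ⟨t, ht⟩ := hC.elim_finite_subcover (fun W : G.left.affineOpens => (W.1 : Set G.left)) (fun W => W.1.2)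
    (fun x _ => Set.mem_iUnion.2 (by
      obtain ⟨_, ⟨W, hW, rfl⟩, hxW, -⟩ := G.left.isBasis_affineOpens.exists_subset_of_mem_open (Set.mem_univ x) isOpen_univ
      exact ⟨⟨W, hW⟩, hxW⟩))
  let U : G.left.Opens := ⨆ W ∈ t, (W : G.left.affineOpens).1
  have hUset : (U : Set G.left) = ⋃ W ∈ t, (W.1 : Set G.left) := by simp [U]
  refine exists_pow_mem_of_compact z U (hUset ▸ t.finite_toSet.isCompact_biUnion fun W _ => W.2.isCompact) fun m => ?_
  refine ((hzy.map ((𝟙 G : G ⟶ G) ^ (m + 1)).left.continuous).mem_open U.2 ?_)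
  rw [hUset]
  refine ht (hNC ⟨pow_mem hy _, ?_⟩)
  show G.hom (((𝟙 G : G ⟶ G) ^ (m + 1)).left y) ∈ V
  rw [← Scheme.Hom.comp_apply, Over.w]
  exact hsV

variable (G) in
/-- The torsion points modulo the neutral components. -/
def torsionSet : Set G.left := {x | ∃ n : ℕ, 0 < n ∧ ((𝟙 G : G ⟶ G) ^ n).left.base x ∈ SGA3x.neutralSet G}

theorem mem_torsionSet_of_specializes {x y : G.left} (h : x ⤳ y) (hy : y ∈ torsionSet G) : x ∈ torsionSet G := by
  obtain ⟨n, hn, hy⟩ := hy
  obtain ⟨N, hN, hx⟩ := exists_pow_mem_of_specializes (h.map ((𝟙 G : G ⟶ G) ^ n).left.continuous) hy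
  refine ⟨n * N, Nat.mul_pos hn hN, ?_⟩
  rw [← pow_pow_apply]
  exact hx

theorem isIndConstructible_iUnion {X : Scheme.{u}} {J : Type} (E : J → Set X)
    (hE : ∀ i, ProCons.IsIndConstructible (E i)) : ProCons.IsIndConstructible (⋃ i, E i) :=
  EGA41Lib.ind_iff.mpr fun V hV => by
    rw [Set.preimage_iUnion]
    exact SpecLib.CO.iUnion fun i => EGA41Lib.ind_iff.mp (hE i) V hV

theorem isOpen_torsionSet : IsOpen (torsionSet G) := by
  have hi : ProCons.IsIndConstructible (torsionSet G) := by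
    have e : torsionSet G = ⋃ n : ℕ, ((𝟙 G : G ⟶ G) ^ (n + 1)).left ⁻¹' SGA3x.neutralSet G := by
      ext x
      simp only [torsionSet, Set.mem_setOf_eq, Set.mem_iUnion, Set.mem_preimage]
      exact ⟨fun ⟨n, hn, h⟩ => ⟨n - 1, by rwa [Nat.sub_add_cancel hn]⟩, fun ⟨n, h⟩ => ⟨n + 1, n.succ_pos, h⟩⟩
    rw [e]
    exact isIndConstructible_iUnion _ fun n =>
      MorLib.LimPro.isIndConstructible_preimage (isIndConstructible_neutralSet G) _
  exact interior_eq_iff_isOpen.mp (subset_antisymm interior_subset fun x hx =>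
    (S3403.result _ _ hi x).mpr fun x' hx' => mem_torsionSet_of_specializes hx' hx)

end Groth.Agent.Torsion17
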