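import Groth.Agent.Torsion17.Basic
import Mathlib.Algebra.CharP.Defs
import Mathlib.RingTheory.Int.Basic

/-!
The torsion sets are closed when the union of the neutral components is.
-/

set_option autoImplicit false
set_option linter.unusedSectionVars false
set_option linter.style.haveILetI false
set_option backward.isDefEq.respectTransparency false
set_option backward.isDefEq.respectTransparency.types false

universe u

open CategoryTheory Limits AlgebraicGeometry MonoidalCategory CartesianMonoidalCategory MonObj GrpObj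
  TopologicalSpace
open scoped CategoryTheory.MonObj

noncomputable section

namespace Groth.Agent.Torsion17

open Groth.Agent.GrpSchLib Groth.Agent.GrpSchLib.Neutral Groth.Agent.GeomIrrSpread

variable {S : Scheme.{u}} {G : Over S} [GrpObj G]

/-- The points whose `n`-th power lies in the neutral components. -/
abbrev kill (G : Over S) [GrpObj G] (n : ℕ) : Set G.left := ((𝟙 G : G ⟶ G) ^ n).left.base ⁻¹' SGA3x.neutralSet G

theorem isClosed_kill (h0 : IsClosed (SGA3x.neutralSet G)) (n : ℕ) : IsClosed (kill G n) :=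
  h0.preimage ((𝟙 G : G ⟶ G) ^ n).left.continuous

theorem mem_kill_iff [LfpNearUnit G] {z : G.left} {n : ℕ} :
    z ∈ kill G n ↔ atPt z ^ n ∈ neutralSubgroup (G.left.fromSpecResidueField z ≫ G.hom) := by
  rw [mem_neutralSubgroup, pt_pow, pt_atPt]
  rfl

theorem mem_kill_gcd [LfpNearUnit G] {z : G.left} {m n : ℕ} (hm : z ∈ kill G m) (hn : z ∈ kill G n) :
    z ∈ kill G (Nat.gcd m n) := by
  rw [mem_kill_iff] at hm hn ⊢
  have h := (neutralSubgroup (G := G) (G.left.fromSpecResidueField z ≫ G.hom)).mul_mem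
    (Subgroup.zpow_mem _ hm (Nat.gcdA m n)) (Subgroup.zpow_mem _ hn (Nat.gcdB m n))
  rw [← zpow_natCast (atPt z) m, ← zpow_natCast (atPt z) n, ← zpow_mul, ← zpow_mul, ← zpow_add, ← Nat.gcd_eq_gcd_ab,
    zpow_natCast] at h
  exact h

theorem mem_kill_of_dvd [LfpNearUnit G] {z : G.left} {m n : ℕ} (hm : z ∈ kill G m) (h : m ∣ n) :
    z ∈ kill G n := by
  obtain ⟨c, rfl⟩ := h
  rw [mem_kill_iff] at hm ⊢
  rw [pow_mul]
  exact Subgroup.pow_mem _ hm c

variable [IsLocallyNoetherian S] [LocallyOfFinitePresentation G.hom] (h0 : IsClosed (SGA3x.neutralSet G))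

include h0 in
/-- On each quasi-compact open finitely many exponents suffice. -/
theorem exists_finset (W : G.left.Opens) (hW : IsCompact (W : Set G.left)) :
    ∃ F : Finset ℕ, (∀ n ∈ F, 0 < n) ∧ ∀ x ∈ torsionSet G, x ∈ W → ∃ n ∈ F, x ∈ kill G n := by
  classical
  haveI : IsLocallyNoetherian G.left := LocallyOfFiniteType.isLocallyNoetherian G.hom
  haveI : CompactSpace W.toScheme := isCompact_iff_compactSpace.1 hW
  haveI : IsLocallyNoetherian W.toScheme := isLocallyNoetherian_of_isOpenImmersion W.ι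
  haveI : IsNoetherian W.toScheme := {}
  obtain ⟨T, hT, hPT⟩ := NoetherianSpace.exists_finset_irreducible (⊤ : Closeds W.toScheme)
  have hgen : ∀ Z : T, ∃ n, 0 < n ∧ ∀ w ∈ (Z.1 : Set W.toScheme), W.ι w ∈ torsionSet G → W.ι w ∈ kill G n := by
    rintro ⟨Z, hZ⟩
    by_cases hne : ∃ w ∈ (Z : Set W.toScheme), W.ι w ∈ torsionSet G
    · obtain ⟨gpt, hgpt⟩ := QuasiSober.sober (hT ⟨Z, hZ⟩) Z.2
      obtain ⟨w, hw, hwP⟩ := hne
      obtain ⟨n, hn, hgn⟩ := mem_torsionSet_of_specializes ((hgpt.specializes hw).map W.ι.continuous) hwP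
      exact ⟨n, hn, fun v hv _ => ((hgpt.specializes hv).map W.ι.continuous).mem_closed (isClosed_kill h0 n) hgn⟩
    · exact ⟨1, one_pos, fun w hw hwP => absurd ⟨w, hw, hwP⟩ hne⟩
  choose nn hpos hmem using hgen
  refine ⟨Finset.univ.image nn, fun n hn => ?_, fun x hx hxW => ?_⟩
  · obtain ⟨Z, -, rfl⟩ := Finset.mem_image.1 hn
    exact hpos Z
  · have h1 : (⟨x, hxW⟩ : W.toScheme) ∈ ((⊤ : Closeds W.toScheme) : Set W.toScheme) := trivial
    rw [hPT, Closeds.coe_finset_sup] at h1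
    simp only [Finset.sup_set_eq_biUnion, Set.mem_iUnion] at h1
    obtain ⟨Z, hZ, h1⟩ := h1
    exact ⟨_, Finset.mem_image.2 ⟨⟨Z, hZ⟩, Finset.mem_univ _, rfl⟩, hmem ⟨Z, hZ⟩ _ h1 hx⟩

include h0 in
/-- Gluing closedness from finitely many exponents. -/
theorem isClosed_of_exponents (C : ℕ → Set G.left) (hC : ∀ d, 0 < d → IsClosed (C d))
    (Q : Set G.left) (hQ : Q ⊆ torsionSet G)
    (h : ∀ x n, 0 < n → x ∈ kill G n → (x ∈ Q ↔ ∃ d, d ∣ n ∧ x ∈ kill G d ∧ x ∈ C d)) : IsClosed Q := by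
  refine isClosed_iff_nhds.2 fun x hx => ?_
  obtain ⟨_, ⟨W, hW, rfl⟩, hxW, -⟩ := G.left.isBasis_affineOpens.exists_subset_of_mem_open (Set.mem_univ x) isOpen_univ
  obtain ⟨F, hF, hmem⟩ := exists_finset h0 W hW.isCompact
  let R : Set G.left := ⋃ n ∈ F, ⋃ d ∈ n.divisors, kill G n ∩ (kill G d ∩ C d)
  have hR : IsClosed R := F.finite_toSet.isClosed_biUnion fun n hn => n.divisors.finite_toSet.isClosed_biUnion
    fun d hd => (isClosed_kill h0 n).inter ((isClosed_kill h0 d).inter (hC d (Nat.pos_of_mem_divisors hd)))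
  have hsub : Q ∩ W ⊆ R := fun y hy => by
    obtain ⟨n, hn, hyn⟩ := hmem y (hQ hy.1) hy.2
    obtain ⟨d, hd, hyd⟩ := (h y n (hF n hn) hyn).1 hy.1
    exact Set.mem_iUnion₂.2 ⟨n, hn, Set.mem_iUnion₂.2 ⟨d, Nat.mem_divisors.2 ⟨hd, (hF n hn).ne'⟩, hyn, hyd⟩⟩
  have hxR : x ∈ R := hR.closure_subset_iff.2 hsub (mem_closure_iff.2 fun o ho hxo => by
    obtain ⟨y, hy, hyQ⟩ := hx (o ∩ W) ((ho.inter W.2).mem_nhds ⟨hxo, hxW⟩)
    exact ⟨y, hy.1, hyQ, hy.2⟩)
  obtain ⟨n, hn, hxR⟩ := Set.mem_iUnion₂.1 hxR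
  obtain ⟨d, hd, hxn, hxd⟩ := Set.mem_iUnion₂.1 hxR
  exact (h x n (hF n hn) hxn).2 ⟨d, (Nat.mem_divisors.1 hd).1, hxd⟩

include h0 in
theorem isClosed_torsionSet : IsClosed (torsionSet G) :=
  isClosed_of_exponents h0 (fun _ => Set.univ) (fun _ _ => isClosed_univ) _ subset_rfl fun x n hn hxn =>
    iff_of_true ⟨n, hn, hxn⟩ ⟨n, dvd_rfl, hxn, trivial⟩

include h0 in
theorem isClosed_coprime (q : ℕ) :
    IsClosed {x : G.left | ∃ n : ℕ, 0 < n ∧ Nat.Coprime n q ∧ ((𝟙 G : G ⟶ G) ^ n).left.base x ∈ SGA3x.neutralSet G} := by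
  refine isClosed_of_exponents h0 (fun d => {_x | Nat.Coprime d q}) (fun d _ => ?_) _
    (fun x ⟨n, hn, _, h⟩ => ⟨n, hn, h⟩) fun x n hn hxn => ⟨?_, ?_⟩
  · exact isClosed_const
  · rintro ⟨m, hm, hmq, hxm⟩
    exact ⟨Nat.gcd m n, Nat.gcd_dvd_right _ _, mem_kill_gcd hxm hxn,
      Nat.Coprime.coprime_dvd_left (Nat.gcd_dvd_left m n) hmq⟩
  · rintro ⟨d, hd, hxd, hdq⟩
    exact ⟨d, Nat.pos_of_dvd_of_pos hd hn, hdq, hxd⟩

theorem isClosed_charLocus (d : ℕ) (hd : 0 < d) :
    IsClosed {x : G.left | ∃ h : ℕ, d = ringExpChar (S.residueField (G.hom.base x)) ^ h} := by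
  by_cases h1 : d = 1
  · subst h1
    convert isClosed_univ using 1
    exact Set.eq_univ_of_forall fun x => ⟨0, (pow_zero _).symm⟩
  by_cases h2 : IsPrimePow d
  · obtain ⟨q, j, hq, hj, rfl⟩ := (isPrimePow_nat_iff d).1 h2
    have e : {x : G.left | ∃ h : ℕ, q ^ j = ringExpChar (S.residueField (G.hom.base x)) ^ h} =
        G.hom.base ⁻¹' ((S.basicOpen ((q : ℕ) : Γ(S, ⊤)) : Set S)ᶜ) := by
      ext x
      have hk : ((q : ℕ) : S.residueField (G.hom.base x)) = 0 ↔ G.hom.base x ∉ S.basicOpen ((q : ℕ) : Γ(S, ⊤)) := by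
        rw [← S.evaluation_eq_zero_iff_notMem_basicOpen (G.hom.base x) (U := ⊤) trivial, map_natCast]
      simp only [Set.mem_setOf_eq, Set.mem_preimage, Set.mem_compl_iff, SetLike.mem_coe, ← hk]
      obtain ⟨c, hc⟩ := CharP.exists (S.residueField (G.hom.base x))
      rcases CharP.char_is_prime_or_zero (S.residueField (G.hom.base x)) c with hcp | hc0
      · haveI : ExpChar (S.residueField (G.hom.base x)) c := ExpChar.prime hcp
        rw [ringExpChar.eq (S.residueField (G.hom.base x)) c, CharP.cast_eq_zero_iff _ c]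
        constructor
        · rintro ⟨h, hh⟩
          have h3 : q ∣ c := hq.dvd_of_dvd_pow (hh ▸ dvd_pow_self q hj.ne')
          rw [(Nat.prime_dvd_prime_iff_eq hq hcp).1 h3]
        · intro h3
          exact ⟨j, by rw [(Nat.prime_dvd_prime_iff_eq hcp hq).1 h3]⟩
      · subst hc0
        haveI : CharZero (S.residueField (G.hom.base x)) := CharP.charP_to_charZero _
        rw [ringExpChar.eq (S.residueField (G.hom.base x)) 1]
        simp [hq.ne_zero, hq.ne_one, hj.ne']
    rw [e]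
    exact (S.basicOpen _).2.isClosed_compl.preimage G.hom.continuous
  · convert isClosed_empty using 1
    refine Set.eq_empty_of_forall_notMem fun x ⟨h, hh⟩ => h2 ?_
    have hne : h ≠ 0 := fun h' => h1 (by rw [hh, h', pow_zero])
    rcases CharP.exists (S.residueField (G.hom.base x)) with ⟨c, hc⟩
    rcases CharP.char_is_prime_or_zero (S.residueField (G.hom.base x)) c with hcp | hc0
    · haveI : ExpChar (S.residueField (G.hom.base x)) c := ExpChar.prime hcp
      rw [ringExpChar.eq (S.residueField (G.hom.base x)) c] at hh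
      exact hh ▸ hcp.isPrimePow.pow hne
    · subst hc0
      haveI : CharZero (S.residueField (G.hom.base x)) := CharP.charP_to_charZero _
      rw [ringExpChar.eq (S.residueField (G.hom.base x)) 1, one_pow] at hh
      exact absurd hh h1

include h0 in
theorem isClosed_expChar :
    IsClosed {x : G.left | ∃ h m : ℕ, m = ringExpChar (S.residueField (G.hom.base x)) ^ h ∧
      ((𝟙 G : G ⟶ G) ^ m).left.base x ∈ SGA3x.neutralSet G} := by
  have hpos : ∀ x : G.left, 0 < ringExpChar (S.residueField (G.hom.base x)) := fun x =>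
    haveI : ExpChar (S.residueField (G.hom.base x)) _ := ringExpChar.expChar _
    expChar_pos (S.residueField (G.hom.base x)) _
  refine isClosed_of_exponents h0 (fun d => {x | ∃ h : ℕ, d = ringExpChar (S.residueField (G.hom.base x)) ^ h})
    isClosed_charLocus _ (fun x ⟨h, m, hm, hx⟩ => ⟨m, hm ▸ pow_pos (hpos x) h, hx⟩) fun x n hn hxn => ⟨?_, ?_⟩
  · rintro ⟨h, m, hm, hxm⟩
    refine ⟨Nat.gcd m n, Nat.gcd_dvd_right _ _, mem_kill_gcd hxm hxn, ?_⟩
    by_cases hp : ringExpChar (S.residueField (G.hom.base x)) = 1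
    · refine ⟨0, ?_⟩
      rw [hp, one_pow] at hm
      subst hm
      simp
    · have hprime : (ringExpChar (S.residueField (G.hom.base x))).Prime := by
        haveI : ExpChar (S.residueField (G.hom.base x)) _ := ringExpChar.expChar _
        exact (expChar_is_prime_or_one (S.residueField (G.hom.base x)) _).resolve_right hp
      obtain ⟨i, -, hi⟩ := (Nat.dvd_prime_pow hprime).1 (hm ▸ Nat.gcd_dvd_left m n)
      exact ⟨i, hm.symm ▸ hi⟩
  · rintro ⟨d, hd, hxd, h, hdh⟩
    exact ⟨h, d, hdh, hxd⟩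

end Groth.Agent.Torsion17
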