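import Groth.Agent.Torsion17.Prime
import Groth.Agent.GeomIrrSpread.OpenSubgroup
import Groth.Agent.GeomIrrSpread.NeutralRep

/-!
The union of the neutral components is open over a dense open of the base.
-/

set_option autoImplicit false
set_option linter.unusedSectionVars false
set_option linter.style.haveILetI false
set_option backward.isDefEq.respectTransparency false
set_option backward.isDefEq.respectTransparency.types false

universe u

open CategoryTheory Limits AlgebraicGeometry MonoidalCategory CartesianMonoidalCategory MonObj GrpObj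
  TopologicalSpace
open scoped CategoryTheory.MonObj

noncomputable section

namespace Groth.Agent.Torsion17

open Groth.Agent.GrpSchLib Groth.Agent.GrpSchLib.Neutral Groth.Agent.GeomIrrSpread

variable {S : Scheme.{u}} (G : Over S) [GrpObj G] [IsLocallyNoetherian S]
  [LocallyOfFinitePresentation G.hom]

/-- Near a maximal point of the base the union of the neutral components is open. -/
theorem exists_nhd_open {gp : S} (hgp : IsMaxPt gp) :
    ∃ U : S.Opens, gp ∈ U ∧ IsOpen (SGA3x.neutralSet G ∩ G.hom ⁻¹' (U : Set S)) := by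
  haveI : IsLocallyNoetherian G.left := LocallyOfFiniteType.isLocallyNoetherian G.hom
  obtain ⟨V, C, hgV, -, hC, -, hNC⟩ := Neutral.exists_compact G gp
  obtain ⟨t, ht⟩ := hC.elim_finite_subcover (fun W : G.left.affineOpens => (W.1 : Set G.left)) (fun W => W.1.2)
    (fun x _ => Set.mem_iUnion.2 (by
      obtain ⟨_, ⟨W, hW, rfl⟩, hxW, -⟩ := G.left.isBasis_affineOpens.exists_subset_of_mem_open (Set.mem_univ x) isOpen_univ
      exact ⟨⟨W, hW⟩, hxW⟩))
  let W : G.left.Opens := ⨆ W ∈ t, (W : G.left.affineOpens).1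
  have hWset : (W : Set G.left) = ⋃ W ∈ t, (W.1 : Set G.left) := by simp [W]
  have hWc : IsCompact (W : Set G.left) := hWset ▸ t.finite_toSet.isCompact_biUnion fun W _ => W.2.isCompact
  haveI : CompactSpace W.toScheme := isCompact_iff_compactSpace.1 hWc
  haveI : IsLocallyNoetherian W.toScheme := isLocallyNoetherian_of_isOpenImmersion W.ι
  haveI : IsNoetherian W.toScheme := {}
  let f : W.toScheme ⟶ S := W.ι ≫ G.hom
  haveI : QuasiCompact f := ⟨fun _ _ _ => NoetherianSpace.isCompact _⟩
  let E : Set W.toScheme := W.ι ⁻¹' (SGA3x.neutralSet G)ᶜ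
  obtain ⟨hi, hp⟩ := EGA41Lib.lc_iff.mp (GeomIrrSpread.isLocallyConstructible_neutralSet G)
  have hE : Topology.IsLocallyConstructible E := EGA41Lib.lc_iff.mpr
    ⟨MorLib.LimPro.isIndConstructible_preimage (EGA41Lib.ind_iff_compl.mpr (by rw [compl_compl]; exact hp)) W.ι,
      ProConsLib.preimage (EGA41Lib.ind_iff_compl.mp hi) W.ι⟩
  let B : Set W.toScheme := closure E ∩ W.ι ⁻¹' SGA3x.neutralSet G
  have hB : Topology.IsLocallyConstructible B := by
    refine Topology.IsLocallyConstructible.inter ?_ (EGA41Lib.lc_iff.mpr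
      ⟨MorLib.LimPro.isIndConstructible_preimage hi W.ι, ProConsLib.preimage hp W.ι⟩)
    have hr : IsRetrocompact (closure E)ᶜ := fun _ _ _ => NoetherianSpace.isCompact _
    have hc : Topology.IsConstructible (closure E) :=
      Topology.IsConstructible.of_compl (hr.isConstructible isClosed_closure.isOpen_compl)
    exact hc.isLocallyConstructible
  have hnot : gp ∉ f '' B := by
    rintro ⟨y, ⟨hyE, hyN⟩, hy⟩
    obtain ⟨e, heE, hey⟩ :=
      (ProConsLib.consClosed_of_isLocallyConstructible hE).exists_specializes_of_mem_closure hyE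
    have he : f e = gp := hgp _ (hy ▸ hey.map f.continuous)
    obtain ⟨O, _, hO, -, hOC⟩ := exists_open_closed (G := G) gp
    exact heE ((hOC _ he).1.1 ((hey.map W.ι.continuous).mem_open hO ((hOC _ hy).1.2 hyN)))
  have hind : ProCons.IsIndConstructible ((f '' B)ᶜ) :=
    EGA41Lib.ind_iff_compl.mpr (by
      rw [compl_compl]
      exact EGA41Lib.pro_image f (EGA41Lib.lc_iff.mp hB).2)
  have hint : gp ∈ interior ((f '' B)ᶜ) :=
    (S3403.result _ _ hind gp).mpr fun z hz => (hgp z hz).symm ▸ hnot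
  refine ⟨⟨interior ((f '' B)ᶜ) ∩ V, isOpen_interior.inter V.2⟩, ⟨hint, hgV⟩, ?_⟩
  refine isOpen_iff_mem_nhds.2 fun x ⟨hxN, hxU⟩ => Filter.inter_mem ?_
    ((isOpen_interior.inter V.2).preimage G.hom.continuous |>.mem_nhds hxU)
  rw [mem_interior_iff_mem_nhds.symm]
  refine (S3403.result _ _ hi x).mpr fun x' hx' => ?_
  by_contra hx'N
  have hxW : x ∈ W := by
    show x ∈ (W : Set G.left)
    rw [hWset]
    exact ht (hNC ⟨hxN, hxU.2⟩)
  have hx'W : x' ∈ W := hx'.mem_open W.2 hxW
  have hs : (⟨x', hx'W⟩ : W.toScheme) ⤳ ⟨x, hxW⟩ := W.ι.isOpenEmbedding.isInducing.specializes_iff.1 hx'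
  exact interior_subset hxU.1 ⟨⟨x, hxW⟩, ⟨hs.mem_closed isClosed_closure (subset_closure hx'N), hxN⟩, rfl⟩

/-- Over some nonempty open the neutral components form an open subgroup of finite type with connected fibres. -/
theorem exists_neutral_subgroup [Nonempty S] :
    ∃ U : S.Opens, (U : Set S).Nonempty ∧
      ∃ (H : Over (U : Scheme.{u})) (_ : GrpObj H) (i : H ⟶ Red.bc U.ι G), IsMonHom i ∧ IsOpenImmersion i.left ∧
        QuasiCompact H.hom ∧ LocallyOfFiniteType H.hom ∧
        (∀ u : ↥(U : Scheme.{u}), _root_.IsConnected (H.hom.base ⁻¹' {u})) ∧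
        Set.range (i.left ≫ pullback.fst G.hom U.ι).base = SGA3x.neutralSet G ∩ G.hom.base ⁻¹' (U : Set S) := by
  obtain ⟨gp, hgp, -⟩ := exists_isMaxPt (Classical.arbitrary S)
  obtain ⟨U, hgU, hN⟩ := exists_nhd_open G hgp
  let G' : Over (U : Scheme.{u}) := Red.bc U.ι G
  haveI : LocallyOfFinitePresentation G'.hom :=
    inferInstanceAs (LocallyOfFinitePresentation (pullback.snd G.hom U.ι))
  let q := pullback.fst G.hom U.ι
  have hrange : Set.range q = G.hom ⁻¹' (U : Set S) := by
    rw [show Set.range q = _ from Scheme.Pullback.range_fst G.hom U.ι, Scheme.Opens.range_ι]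
  have hN' : IsOpen (SGA3x.neutralSet G') := by
    rw [neutralSet_bc, ← Set.preimage_inter_range, hrange]
    exact hN.preimage q.continuous
  let N : G'.left.Opens := ⟨_, hN'⟩
  obtain ⟨str, hmon⟩ := exists_grpObj_open G' N rfl
  refine ⟨U, ⟨gp, hgU⟩, Over.mk (N.ι ≫ G'.hom), str, Over.homMk N.ι rfl, hmon,
    inferInstanceAs (IsOpenImmersion N.ι), ?_, inferInstanceAs (LocallyOfFiniteType (N.ι ≫ G'.hom)), fun v => ?_, ?_⟩
  · refine quasiCompact_iff_forall_isAffineOpen.mpr fun V hV => ?_
    rw [Scheme.Hom.coe_preimage, N.ι.isOpenEmbedding.isInducing.isCompact_iff]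
    refine (congrArg IsCompact ?_).mpr (isCompact_neutralSet_inter G' hV)
    show N.ι '' (N.ι ⁻¹' (G'.hom ⁻¹' (V : Set (U : Scheme.{u})))) = _
    rw [Set.image_preimage_eq_range_inter, Scheme.Opens.range_ι]
    rfl
  · have hC : N.ι '' ((N.ι ≫ G'.hom) ⁻¹' {v}) = connectedComponentIn (G'.hom ⁻¹' {v}) (unit G' v) := by
      rw [← neutralSet_inter_fibre]
      show N.ι '' (N.ι ⁻¹' (G'.hom ⁻¹' {v})) = _
      rw [Set.image_preimage_eq_range_inter, Scheme.Opens.range_ι]
      rfl
    have hconn : _root_.IsConnected (N.ι '' ((N.ι ≫ G'.hom) ⁻¹' {v})) := by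
      rw [hC]
      exact isConnected_connectedComponentIn_iff.2 (hom_unit G' v)
    exact ⟨Set.image_nonempty.1 hconn.nonempty,
      N.ι.isOpenEmbedding.isInducing.isPreconnected_image.1 hconn.isPreconnected⟩
  · show Set.range (N.ι ≫ q).base = _
    rw [Scheme.Hom.comp_base, TopCat.coe_comp, Set.range_comp, show Set.range N.ι.base = (N : Set G'.left) from
      Scheme.Opens.range_ι N, show (N : Set G'.left) = q ⁻¹' SGA3x.neutralSet G from neutralSet_bc G U.ι]
    exact Set.image_preimage_eq_inter_range.trans (congrArg (SGA3x.neutralSet G ∩ ·) hrange)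

end Groth.Agent.Torsion17
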