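import Groth.Agent.Torsion17.Closed
import Groth.Agent.GeomIrrSpread.NeutralTranslate
import Mathlib.AlgebraicGeometry.AlgClosed.Basic

/-!
Divisibility of the neutral components and generalisations of their points.
-/

set_option autoImplicit false
set_option linter.unusedSectionVars false
set_option linter.style.haveILetI false
set_option backward.isDefEq.respectTransparency false
set_option backward.isDefEq.respectTransparency.types false
set_option maxHeartbeats 800000

universe u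

open CategoryTheory Limits AlgebraicGeometry MonoidalCategory CartesianMonoidalCategory MonObj GrpObj
  TopologicalSpace
open scoped CategoryTheory.MonObj

noncomputable section

namespace Groth.Agent.Torsion17

open Groth.Agent.GrpSchLib Groth.Agent.GrpSchLib.Neutral Groth.Agent.GeomIrrSpread

variable {S : Scheme.{u}} {G : Over S} [GrpObj G] [IsLocallyNoetherian S]
  [LocallyOfFinitePresentation G.hom]

/-- In each fibre the neutral component is open and closed. -/
theorem exists_open_closed (s : S) :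
    ∃ O C : Set G.left, IsOpen O ∧ IsClosed C ∧
      ∀ x, G.hom x = s → ((x ∈ O ↔ x ∈ SGA3x.neutralSet G) ∧ (x ∈ C ↔ x ∈ SGA3x.neutralSet G)) := by
  let π := pullback.fst G.hom (S.fromSpecResidueField s)
  have hπ : Topology.IsEmbedding π := (G.hom.fiberι s).isEmbedding
  have hr : Set.range π = G.hom ⁻¹' {s} := Scheme.Hom.range_fiberι G.hom s
  haveI : LocallyOfFiniteType (fib G s).hom :=
    inferInstanceAs (LocallyOfFiniteType (pullback.snd G.hom (S.fromSpecResidueField s)))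
  haveI : IsLocallyNoetherian (fib G s).left := LocallyOfFiniteType.isLocallyNoetherian (fib G s).hom
  let e : (fib G s).left := η[fib G s].left (IsLocalRing.closedPoint (S.residueField s))
  obtain ⟨O, hO, hOe⟩ := hπ.isInducing.isOpen_iff.1 (isOpen_connectedComponent e)
  obtain ⟨C, hC, hCe⟩ := hπ.isInducing.isClosed_iff.1 (isClosed_connectedComponent (x := e))
  refine ⟨O, C, hO, hC, fun x hx => ?_⟩
  obtain ⟨y, rfl⟩ : x ∈ Set.range π := hr ▸ hx
  have hN : π y ∈ SGA3x.neutralSet G ↔ y ∈ connectedComponent e := by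
    rw [mem_neutralSet_iff, hx, connectedComponentIn_eq]
    exact hπ.injective.mem_set_image
  exact ⟨(Set.ext_iff.1 hOe y).trans hN.symm, (Set.ext_iff.1 hCe y).trans hN.symm⟩

/-- The neutral components are divisible by exponents whose power map is open. -/
theorem exists_pow_eq [IsCommMonObj G] {n : ℕ} (hn : IsOpenMap ((𝟙 G : G ⟶ G) ^ n).left) {x : G.left}
    (hx : x ∈ SGA3x.neutralSet G) :
    ∃ y, y ∈ SGA3x.neutralSet G ∧ ((𝟙 G : G ⟶ G) ^ n).left y = x := by
  obtain ⟨O, C, hO, -, hOC⟩ := exists_open_closed (G := G) (G.hom x)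
  let f : G ⟶ G := (𝟙 G : G ⟶ G) ^ n
  let O' : G.left.Opens := ⟨O, hO⟩
  let j : Over.mk (O'.ι ≫ G.hom) ⟶ G := Over.homMk O'.ι rfl
  let T : G.left.Opens := ⟨f.left '' O, hn O hO⟩
  have hT : Set.range (j ≫ f).left = (T : Set G.left) := by
    rw [Over.comp_left, Scheme.Hom.comp_base, TopCat.coe_comp, Set.range_comp]
    exact congrArg (f.left '' ·) (Scheme.Opens.range_ι _)
  have he : unit G (G.hom x) ∈ T := by
    refine ⟨unit G (G.hom x), (hOC _ (hom_unit G _)).1.2 (unit_mem_neutralSet G _), ?_⟩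
    show f.left ((η[G]).left _) = (η[G]).left _
    rw [← left_comp_apply, show η[G] ≫ f = η[G] by
      rw [show f = (𝟙 G : G ⟶ G) ^ n from rfl, MonObj.comp_pow, Category.comp_id,
        show η[G] = (1 : 𝟙_ (Over S) ⟶ G) by simp [MonObj.one_eq_one], one_pow]]
  obtain ⟨p, hp1, hp2, hp⟩ := exists_mul G hx T he
  have hrange : Set.range ((j ≫ f) ⊗ₘ (j ≫ f)).left =
      (fst G G).left ⁻¹' Set.range (j ≫ f).left ∩ (snd G G).left ⁻¹' Set.range (j ≫ f).left := by
    rw [Over.tensorHom_left]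
    exact Scheme.Pullback.range_map _ _ _ _ _ _ _ _ _
  obtain ⟨q, hq⟩ : p ∈ Set.range ((j ≫ f) ⊗ₘ (j ≫ f)).left := by
    rw [hrange, hT]
    exact ⟨hp1, hp2⟩
  let Y : Over S := Over.mk (O'.ι ≫ G.hom)
  let q' : (G ⊗ G).left := (j ⊗ₘ j).left q
  have e : ∀ r : Y ⊗ Y ⟶ G, G.hom (r.left q) = (Y ⊗ Y).hom q := fun r =>
    congrArg (fun m : (Y ⊗ Y).left ⟶ S => m q) (Over.w r)
  have hpx : ((((j ≫ f) ⊗ₘ (j ≫ f)) ≫ μ[G]).left q) = x := by
    rw [left_comp_apply, hq, hp]
  have hmem : ∀ r : G ⊗ G ⟶ G, r.left q' ∈ O → r.left q' ∈ SGA3x.neutralSet G := fun r hr => by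
    refine (hOC _ ?_).1.1 hr
    rw [← hpx, e, ← left_comp_apply, e]
  refine ⟨μ[G].left q', mul_mem_neutralSet G (hmem _ ?_) (hmem _ ?_), ?_⟩
  · rw [← left_comp_apply, tensorHom_fst, left_comp_apply]
    exact ((fst Y Y).left q).2
  · rw [← left_comp_apply, tensorHom_snd, left_comp_apply]
    exact ((snd Y Y).left q).2
  · have hμf : μ[G] ≫ f = (f ⊗ₘ f) ≫ μ[G] := by
      rw [show f = (𝟙 G : G ⟶ G) ^ n from rfl, MonObj.comp_pow, Category.comp_id,
        show μ[G] = fst G G * snd G G from by simp [Hom.mul_def], mul_pow, MonObj.comp_mul,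
        tensorHom_fst, tensorHom_snd, MonObj.comp_pow, MonObj.comp_pow, Category.comp_id, Category.comp_id]
    have key : (j ⊗ₘ j) ≫ μ[G] ≫ f = ((j ≫ f) ⊗ₘ (j ≫ f)) ≫ μ[G] := by
      rw [← MonoidalCategory.tensorHom_comp_tensorHom, Category.assoc, hμf]
    show f.left (μ[G].left ((j ⊗ₘ j).left q)) = x
    rw [← hpx, ← left_comp_apply, ← left_comp_apply, key]

/-- Near a point of the base the neutral components lie in a quasi-compact open. -/
theorem exists_compact_open (s : S) :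
    ∃ U : G.left.Opens, IsCompact (U : Set G.left) ∧ ∀ x ∈ SGA3x.neutralSet G, G.hom x = s → x ∈ U := by
  obtain ⟨V, C, hsV, -, hC, -, hNC⟩ := Neutral.exists_compact G s
  obtain ⟨t, ht⟩ := hC.elim_finite_subcover (fun W : G.left.affineOpens => (W.1 : Set G.left)) (fun W => W.1.2)
    (fun x _ => Set.mem_iUnion.2 (by
      obtain ⟨_, ⟨W, hW, rfl⟩, hxW, -⟩ := G.left.isBasis_affineOpens.exists_subset_of_mem_open (Set.mem_univ x) isOpen_univ
      exact ⟨⟨W, hW⟩, hxW⟩))
  have hUset : ((⨆ W ∈ t, (W : G.left.affineOpens).1 : G.left.Opens) : Set G.left) = ⋃ W ∈ t, (W.1 : Set G.left) := by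
    simp
  refine ⟨_, hUset ▸ t.finite_toSet.isCompact_biUnion fun W _ => W.2.isCompact, fun x hx hxs => ?_⟩
  show x ∈ ((⨆ W ∈ t, (W : G.left.affineOpens).1 : G.left.Opens) : Set G.left)
  rw [hUset]
  exact ht (hNC ⟨hx, by show G.hom x ∈ V; rw [hxs]; exact hsV⟩)

/-- A bound for the order modulo the neutral component of a point with powers in a quasi-compact open. -/
theorem exists_bound {K : Type u} [Field K] (a : Spec (CommRingCat.of K) ⟶ S) (U : G.left.Opens)
    (hU : IsCompact (U : Set G.left)) :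
    ∃ M : ℕ, ∀ ζ : Over.mk a ⟶ G, (∀ m ≤ M, pt (ζ ^ (m + 1)) ∈ U) →
      ∃ d : ℕ, 0 < d ∧ d ≤ M ∧ ζ ^ d ∈ neutralSubgroup a := by
  let Z : Over S := Over.mk a
  haveI : LocallyOfFiniteType (snd G Z).left := inferInstanceAs (LocallyOfFiniteType (pullback.snd G.hom a))
  haveI : IsLocallyNoetherian Z.left := inferInstanceAs (IsLocallyNoetherian (Spec (CommRingCat.of K)))
  haveI : IsLocallyNoetherian (G ⊗ Z).left := LocallyOfFiniteType.isLocallyNoetherian (snd G Z).left
  haveI : QuasiCompact a := inferInstance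
  haveI : QuasiCompact (fst G Z).left := inferInstanceAs (QuasiCompact (pullback.fst G.hom a))
  let W : (G ⊗ Z).left.Opens := (fst G Z).left ⁻¹ᵁ U
  haveI : CompactSpace W := isCompact_iff_compactSpace.1 ((fst G Z).left.isCompact_preimage hU)
  haveI : IsLocallyNoetherian W.toScheme := isLocallyNoetherian_of_isOpenImmersion W.ι
  haveI : CompactSpace W.toScheme := ‹CompactSpace W›
  haveI : IsNoetherian W.toScheme := {}
  haveI : Fintype ↥(irreducibleComponents W.toScheme) :=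
    NoetherianSpace.finite_irreducibleComponents.fintype
  refine ⟨Fintype.card ↥(irreducibleComponents W.toScheme), fun ζ h => ?_⟩
  let w : Fin (Fintype.card ↥(irreducibleComponents W.toScheme) + 1) → W.toScheme := fun m =>
    ⟨(lift (ζ ^ ((m : ℕ) + 1)) (𝟙 Z)).left (IsLocalRing.closedPoint _), by
      show (fst G Z).left _ ∈ U
      rw [← Scheme.Hom.comp_apply, ← Over.comp_left, lift_fst]
      exact h m (Nat.lt_succ_iff.1 m.2)⟩
  let c : Fin (Fintype.card ↥(irreducibleComponents W.toScheme) + 1) → irreducibleComponents W.toScheme :=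
    fun m => ⟨irreducibleComponent (w m), irreducibleComponent_mem_irreducibleComponents _⟩
  obtain ⟨i, j, hij, hc⟩ := Fintype.exists_ne_map_eq_of_card_lt c (by simp)
  wlog hlt : i < j generalizing i j with H
  · exact H j i hij.symm hc.symm (lt_of_le_of_ne (not_lt.1 hlt) hij.symm)
  have hlt' : (i : ℕ) < j := hlt
  have hj : (j : ℕ) ≤ Fintype.card ↥(irreducibleComponents W.toScheme) := Nat.lt_succ_iff.1 j.2
  refine ⟨(j : ℕ) - i, Nat.sub_pos_of_lt hlt', by omega, ?_⟩
  have hC : _root_.IsPreconnected ((W.ι : W.toScheme → (G ⊗ Z).left) '' irreducibleComponent (w i)) :=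
    (isIrreducible_irreducibleComponent (x := w i)).isPreirreducible.isPreconnected.image _ W.ι.continuous.continuousOn
  have h1 : ζ ^ ((j : ℕ) + 1) * (ζ ^ ((i : ℕ) + 1))⁻¹ ∈ neutralSubgroup a :=
    mem_of_isPreconnected _ _ _ hC ⟨w i, mem_irreducibleComponent, rfl⟩
      ⟨w j, by
        rw [show irreducibleComponent (w i) = irreducibleComponent (w j) from Subtype.ext_iff.1 hc]
        exact mem_irreducibleComponent, rfl⟩
  rwa [← pow_sub ζ (by omega : (i : ℕ) + 1 ≤ j + 1), Nat.add_sub_add_right] at h1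

theorem gcd_dvd_pow {d M n : ℕ} (hd : 0 < d) (hM : d ≤ M) : Nat.gcd d (n ^ (M + 1)) ∣ n ^ M := by
  refine (Nat.dvd_iff_prime_pow_dvd_dvd _ _).2 fun q k hq hk => ?_
  have hkd : q ^ k ∣ d := hk.trans (Nat.gcd_dvd_left _ _)
  rcases Nat.eq_zero_or_pos k with rfl | hk0
  · simp
  have hqn : q ∣ n := hq.dvd_of_dvd_pow ((dvd_pow_self q hk0.ne').trans (hk.trans (Nat.gcd_dvd_right _ _)))
  have hkM : k ≤ M := by
    have h1 := Nat.le_of_dvd hd hkd
    have h2 := Nat.lt_pow_self (n := k) hq.one_lt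
    omega
  exact (pow_dvd_pow q hkM).trans (pow_dvd_pow_of_dvd hqn M)

/-- A generalisation of a point of the neutral components with a power in them lies in them, for exponents
all whose power maps are open. -/
theorem mem_neutralSet_of_specializes [IsCommMonObj G] {n : ℕ}
    (hopen : ∀ k : ℕ, IsOpenMap ((𝟙 G : G ⟶ G) ^ (n ^ k)).left) {u u0 : G.left} (h : u ⤳ u0)
    (h0 : u0 ∈ SGA3x.neutralSet G) (hu : ((𝟙 G : G ⟶ G) ^ n).left u ∈ SGA3x.neutralSet G) :
    u ∈ SGA3x.neutralSet G := by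
  by_contra hnot
  obtain ⟨U, hU, hUN⟩ := exists_compact_open (G := G) (G.hom u0)
  let t : S := G.hom u
  let K : Type u := AlgebraicClosure (S.residueField t)
  let a : Spec (CommRingCat.of K) ⟶ S :=
    Spec.map (CommRingCat.ofHom (algebraMap (S.residueField t) K)) ≫ S.fromSpecResidueField t
  have hat : ∀ v, a v = t := fun v => by
    rw [Scheme.Hom.comp_apply]
    exact Scheme.fromSpecResidueField_apply _ _
  obtain ⟨M, hM⟩ := exists_bound a U hU
  obtain ⟨w0, hw0, hw0u⟩ := exists_pow_eq (hopen M) h0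
  have hw0s : G.hom w0 = G.hom u0 := by
    rw [← hw0u, ← Scheme.Hom.comp_apply, Over.w]
  let W : Set G.left := ⋂ m ∈ Finset.range (M + 1), ((𝟙 G : G ⟶ G) ^ (m + 1)).left ⁻¹' U
  have hW : IsOpen W := isOpen_biInter_finset fun m _ => U.2.preimage ((𝟙 G : G ⟶ G) ^ (m + 1)).left.continuous
  have hw0W : w0 ∈ W := Set.mem_iInter₂.2 fun m _ => hUN _ (pow_mem hw0 _) (by
    rw [← Scheme.Hom.comp_apply, Over.w]; exact hw0s)
  obtain ⟨w, hwW, hwu⟩ := h.mem_open (hopen M W hW) ⟨w0, hw0W, hw0u⟩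
  have hwt : G.hom w = t := by
    show G.hom w = G.hom u
    rw [← hwu, ← Scheme.Hom.comp_apply, Over.w]
  obtain ⟨O, C, hO, hC, hOC⟩ := exists_open_closed (G := G) t
  let Z : Over S := Over.mk a
  haveI : LocallyOfFiniteType (snd G Z).left := inferInstanceAs (LocallyOfFiniteType (pullback.snd G.hom a))
  let pG : (G ⊗ Z).left ⟶ Spec (CommRingCat.of K) := (snd G Z).left
  haveI : LocallyOfFiniteType pG := ‹LocallyOfFiniteType (snd G Z).left›
  haveI : JacobsonSpace ↥(G ⊗ Z).left := LocallyOfFiniteType.jacobsonSpace pG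
  have hfib : ∀ (k : ℕ) r, G.hom (((𝟙 G : G ⟶ G) ^ k).left ((fst G Z).left r)) = t := fun k r => by
    rw [← Scheme.Hom.comp_apply _ G.hom, Over.w, ← Scheme.Hom.comp_apply, Over.w (fst G Z), ← Over.w (snd G Z),
      Scheme.Hom.comp_apply]
    exact hat _
  let A : Set (G ⊗ Z).left := (fst G Z).left ⁻¹' (W ∩ ((((𝟙 G : G ⟶ G) ^ (n ^ M)).left ⁻¹' Cᶜ) ∩
    ((𝟙 G : G ⟶ G) ^ (n ^ (M + 1))).left ⁻¹' O))
  have hA : IsOpen A :=
    (hW.inter ((hC.isOpen_compl.preimage ((𝟙 G : G ⟶ G) ^ (n ^ M)).left.continuous).inter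
      (hO.preimage ((𝟙 G : G ⟶ G) ^ (n ^ (M + 1))).left.continuous))).preimage (fst G Z).left.continuous
  have hne : A.Nonempty := by
    obtain ⟨r, hr, -⟩ := Scheme.Pullback.exists_preimage_pullback (f := G.hom) (g := a) w
      (IsLocalRing.closedPoint K) (hwt.trans (hat _).symm)
    have hr' : (fst G Z).left r = w := hr
    refine ⟨r, ?_, ?_, ?_⟩
    · rw [hr']; exact hwW
    · show ((𝟙 G : G ⟶ G) ^ (n ^ M)).left ((fst G Z).left r) ∉ C
      rw [(hOC _ (hfib _ r)).2, hr', hwu]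
      exact hnot
    · show ((𝟙 G : G ⟶ G) ^ (n ^ (M + 1))).left ((fst G Z).left r) ∈ O
      rw [(hOC _ (hfib _ r)).1, hr', pow_succ, ← pow_pow_apply, hwu]
      exact hu
  obtain ⟨q, hqA, hq⟩ := nonempty_inter_closedPoints hne hA.isLocallyClosed
  let σ : Z ⟶ G ⊗ Z := Over.homMk (pointOfClosedPoint pG q hq) (by
    rw [← Over.w (snd G Z)]
    exact (Category.assoc _ _ _).symm.trans
      ((congrArg (· ≫ a) (pointOfClosedPoint_comp pG q hq)).trans (Category.id_comp _)))
  let ζ : Z ⟶ G := σ ≫ fst G Z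
  have hζ : pt ζ = (fst G Z).left q := by
    show (σ ≫ fst G Z).left _ = _
    rw [left_comp_apply]
    exact congrArg (fst G Z).left (pointOfClosedPoint_apply pG q hq _)
  obtain ⟨hqW, hqC, hqO⟩ := hqA
  obtain ⟨d, hd, hdM, hζd⟩ := hM ζ fun m hm => by
    rw [pt_pow, hζ]
    exact Set.mem_iInter₂.1 hqW m (Finset.mem_range.2 (Nat.lt_succ_of_le hm))
  have hζn : ζ ^ (n ^ (M + 1)) ∈ neutralSubgroup a := by
    rw [mem_neutralSubgroup, pt_pow, hζ]
    exact (hOC _ (hfib _ q)).1.1 hqO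
  refine hqC ((hOC _ (hfib _ q)).2.2 ?_)
  rw [← hζ, ← pt_pow, ← mem_neutralSubgroup]
  obtain ⟨c, hc⟩ := gcd_dvd_pow (n := n) hd hdM
  rw [hc, pow_mul]
  refine Subgroup.pow_mem _ ?_ c
  have h1 := (neutralSubgroup (G := G) a).mul_mem (Subgroup.zpow_mem _ hζd (Nat.gcdA d (n ^ (M + 1))))
    (Subgroup.zpow_mem _ hζn (Nat.gcdB d (n ^ (M + 1))))
  rw [← zpow_natCast ζ d, ← zpow_natCast ζ (n ^ (M + 1)), ← zpow_mul, ← zpow_mul, ← zpow_add,
    ← Nat.gcd_eq_gcd_ab, zpow_natCast] at h1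
  exact h1

variable (G) in
/-- The points killed by a power of `p` modulo the neutral components form an open set. -/
theorem isOpen_primary [IsCommMonObj G] {p : ℕ} (hp : p = 1 ∨ p.Prime)
    (hopen : ∀ n : ℕ, 0 < n → Nat.Coprime n p → IsOpenMap ((𝟙 G : G ⟶ G) ^ n).left.base) :
    IsOpen {x : G.left | ∃ h : ℕ, ((𝟙 G : G ⟶ G) ^ (p ^ h)).left.base x ∈ SGA3x.neutralSet G} := by
  have hi : ProCons.IsIndConstructible
      {x : G.left | ∃ h : ℕ, ((𝟙 G : G ⟶ G) ^ (p ^ h)).left.base x ∈ SGA3x.neutralSet G} := by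
    have e : {x : G.left | ∃ h : ℕ, ((𝟙 G : G ⟶ G) ^ (p ^ h)).left.base x ∈ SGA3x.neutralSet G} =
        ⋃ h : ℕ, ((𝟙 G : G ⟶ G) ^ (p ^ h)).left ⁻¹' SGA3x.neutralSet G := by
      ext x; simp
    rw [e]
    exact isIndConstructible_iUnion _ fun h =>
      MorLib.LimPro.isIndConstructible_preimage (isIndConstructible_neutralSet G) _
  refine interior_eq_iff_isOpen.mp (subset_antisymm interior_subset fun y hy =>
    (S3403.result _ _ hi y).mpr fun x hxy => ?_)
  obtain ⟨h, hy⟩ := hy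
  let f : G ⟶ G := (𝟙 G : G ⟶ G) ^ (p ^ h)
  have hz : f.left x ⤳ f.left y := hxy.map f.left.continuous
  obtain ⟨N, hN, hzN⟩ := exists_pow_mem_of_specializes hz hy
  obtain ⟨i, n, hn, hcop, rfl⟩ : ∃ i n : ℕ, 0 < n ∧ Nat.Coprime n p ∧ N = p ^ i * n := by
    rcases hp with rfl | hp
    · exact ⟨0, N, hN, Nat.coprime_one_right N, by simp⟩
    · obtain ⟨e, n, hn, rfl⟩ := Nat.exists_eq_pow_mul_and_not_dvd hN.ne' p hp.ne_one
      exact ⟨e, n, Nat.pos_of_ne_zero fun h0 => hn (h0 ▸ dvd_zero p),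
        (hp.coprime_iff_not_dvd.2 hn).symm, rfl⟩
  let g : G ⟶ G := (𝟙 G : G ⟶ G) ^ (p ^ i)
  have hu : ((𝟙 G : G ⟶ G) ^ n).left (g.left (f.left x)) ∈ SGA3x.neutralSet G := by
    rw [pow_pow_apply]
    exact hzN
  have := mem_neutralSet_of_specializes (fun k => hopen _ (pow_pos hn k) (hcop.pow_left k))
    (hz.map g.left.continuous) (pow_mem hy _) hu
  rw [pow_pow_apply, ← pow_add] at this
  exact ⟨h + i, this⟩

end Groth.Agent.Torsion17
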