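import Groth.Agent.GeomIrrSpread.NeutralTranslate
import Groth.Agent.Torsion17.Prime

/-!
Where the structure map is universally open along the neutral components, so is their union.
-/

set_option autoImplicit false
set_option linter.unusedSectionVars false
set_option linter.style.haveILetI false
set_option backward.isDefEq.respectTransparency false
set_option backward.isDefEq.respectTransparency.types false

universe u

open CategoryTheory Limits AlgebraicGeometry MonoidalCategory CartesianMonoidalCategory MonObj GrpObj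
  TopologicalSpace
open scoped CategoryTheory.Obj

noncomputable section

namespace Groth.Agent.Torsion17

open Groth.Agent.GrpSchLib Groth.Agent.GrpSchLib.Neutral Groth.Agent.GeomIrrSpread

variable {S : Scheme.{u}} (G : Over S) [GrpObj G] [LocallyOfFinitePresentation G.hom]

theorem image_inter_mem_nhds (hopen : ∀ x ∈ SGA3x.neutralSet G, EGA43.IsUnivOpenAt G.hom x)
    {S' : Scheme.{u}} (g : S' ⟶ S) {x : (Red.bc g G).left} (hx : x ∈ SGA3x.neutralSet (Red.bc g G))
    (U : Set (Red.bc g G).left) (hU : IsOpen U) (hxU : x ∈ U) :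
    (Red.bc g G).hom '' (U ∩ SGA3x.neutralSet (Red.bc g G)) ∈ nhds ((Red.bc g G).hom x) := by
  let G' := Red.bc g G
  haveI : LocallyOfFinitePresentation G'.hom :=
    inferInstanceAs (LocallyOfFinitePresentation (pullback.snd G.hom g))
  have hi : ProCons.IsIndConstructible (G'.hom '' (U ∩ SGA3x.neutralSet G')) := by
    refine EGA41Lib.ind_image G'.hom (EGA41Lib.ind_iff.mpr fun V hV => ?_)
    exact (EGA41Lib.ind_iff.mp (MorLib.LimCons.ind_of_isOpen hU) V hV).inter
      (EGA41Lib.ind_iff.mp (isIndConstructible_neutralSet G') V hV)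
  refine mem_interior_iff_mem_nhds.1 ((S3403.result _ _ hi _).mpr fun t ht => ?_)
  have hd : topologicalKrullDim ↥(G'.hom ⁻¹' {G'.hom x}) ≤ topologicalKrullDim ↥(G'.hom ⁻¹' {t}) := by
    rw [dim_bc, dim_bc]
    exact dim_le_of_isUnivOpenAt G _ ⊤ trivial (fun y hy _ => hopen y hy.1) _ (ht.map g.continuous)
  have hirr : ∀ y : S', IsIrreducible (connectedComponentIn (G'.hom ⁻¹' {y}) (unit G' y)) :=
    UnivOpen.irreducible_of_geomIrreducible G'.hom (g := unit G') (isIrreducible_bcπ G')
  obtain ⟨ξ, hξy, hξe, hξm, hC, -, hξd⟩ :=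
    UnivOpen.exists_component_generic G'.hom (hom_unit G' (G'.hom x)) (hirr _)
  obtain ⟨ξ', hξ'y, hξ'e, -, hC', -, hξ'd⟩ := UnivOpen.exists_component_generic G'.hom (hom_unit G' t) (hirr t)
  have hle : FibDim.rd G'.hom ξ ≤ FibDim.rd G'.hom ξ' := by
    rw [FibreDimGrp.dim_eq G' (G'.hom x), FibreDimGrp.dim_eq G' t, hξd, hξ'd] at hd
    exact_mod_cast hd
  have hs : ξ' ⤳ ξ :=
    UnivOpen.generic_specializes (f := G'.hom) (g := unit G') (Over.w η[G']) hirr ht hξy hξe hξm hξ'y hξ'e hle
  have hxN : x ∈ SGA3x.neutralSet G' ∩ G'.hom ⁻¹' {G'.hom x} := ⟨hx, rfl⟩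
  rw [neutralSet_inter_fibre, hC] at hxN
  have hξ'x : ξ' ⤳ x := hs.trans (specializes_iff_mem_closure.2 hxN.1)
  have hξ'N : ξ' ∈ SGA3x.neutralSet G' ∩ G'.hom ⁻¹' {t} := by
    rw [neutralSet_inter_fibre, hC']
    exact ⟨subset_closure rfl, hξ'y⟩
  exact ⟨ξ', ⟨hξ'x.mem_open hU hxU, hξ'N.1⟩, hξ'y⟩

end Groth.Agent.Torsion17
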